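import Mathlib.AlgebraicGeometry.QuasiAffine
import Mathlib.Topology.Algebra.Ring.Basic

set_option linter.unusedSectionVars false
set_option linter.unusedVariables false
set_option linter.unusedSimpArgs false
set_option autoImplicit false
set_option linter.style.haveILetI false
set_option maxHeartbeats 400000

/-!
# Points of quasi-affine schemes with values in a topological ring with open unit group
-/

namespace Groth.Agent.Helper6.QAffPtLib

open AlgebraicGeometry CategoryTheory TopologicalSpace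

universe u

variable (X : Scheme.{u}) [X.IsQuasiAffine]

/-- the ideal of global sections whose basic open in `Spec Γ(X, ⊤)` lies in `X` -/
def goodIdeal : Ideal Γ(X, ⊤) where
  carrier := {r | (PrimeSpectrum.basicOpen r : Set (PrimeSpectrum Γ(X, ⊤))) ⊆
    Set.range X.toSpecΓ.base}
  add_mem' := by
    intro a b ha hb 𝔭 h𝔭
    have h𝔭' : a + b ∉ 𝔭.asIdeal := h𝔭
    by_cases h1 : a ∈ 𝔭.asIdeal
    · have h2 : b ∉ 𝔭.asIdeal := fun h2 => h𝔭' (𝔭.asIdeal.add_mem h1 h2)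
      exact hb h2
    · exact ha h1
  zero_mem' := by
    intro 𝔭 h𝔭
    exact absurd 𝔭.asIdeal.zero_mem h𝔭
  smul_mem' := by
    intro c r hr 𝔭 h𝔭
    have h𝔭' : c * r ∉ 𝔭.asIdeal := h𝔭
    exact hr (fun h => h𝔭' (𝔭.asIdeal.mul_mem_left c h))

lemma mem_goodIdeal (r : Γ(X, ⊤)) : r ∈ goodIdeal X ↔
    (PrimeSpectrum.basicOpen r : Set (PrimeSpectrum Γ(X, ⊤))) ⊆ Set.range X.toSpecΓ.base :=
  Iff.rfl

lemma isAffineOpen_of_mem_goodIdeal (r : Γ(X, ⊤)) (hr : r ∈ goodIdeal X) :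
    IsAffineOpen (X.basicOpen r) := by
  rw [← X.toSpecΓ_preimage_basicOpen r, ← Scheme.Hom.isAffineOpen_iff_of_isOpenImmersion X.toSpecΓ]
  have e : X.toSpecΓ ''ᵁ (X.toSpecΓ ⁻¹ᵁ PrimeSpectrum.basicOpen r) =
      (PrimeSpectrum.basicOpen r : (Spec Γ(X, ⊤)).Opens) :=
    TopologicalSpace.Opens.ext (Set.image_preimage_eq_of_subset hr)
  rw [e]
  exact IsAffineOpen.Spec_basicOpen r

lemma exists_mem_goodIdeal (x : X) : ∃ r ∈ goodIdeal X, x ∈ X.basicOpen r := by
  obtain ⟨_, ⟨_, ⟨r, rfl⟩, rfl⟩, hxr, hrU⟩ := (PrimeSpectrum.isBasis_basic_opens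
    (R := Γ(X, ⊤))).exists_subset_of_mem_open (Set.mem_range_self x)
      X.toSpecΓ.isOpenEmbedding.isOpen_range
  refine ⟨r, hrU, ?_⟩
  rw [← X.toSpecΓ_preimage_basicOpen r]
  exact hxr

theorem exists_affine (B : Type u) [CommRing B] [TopologicalSpace B] [IsTopologicalRing B]
    (hB : IsOpen {b : B | IsUnit b}) (B₀ : Type u) [CommRing B₀] (φ : B₀ →+* B)
    (hφ : DenseRange φ) (p : X ⟶ Spec (CommRingCat.of B₀))
    (f : Spec (CommRingCat.of B) ⟶ X) (hf : f ≫ p = Spec.map (CommRingCat.ofHom φ)) :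
    ∃ U : X.Opens, IsAffineOpen U ∧ Set.range f.base ⊆ (U : Set X) := by
  let g : Γ(X, ⊤) →+* B :=
    ((Scheme.ΓSpecIso (CommRingCat.of B)).hom).hom.comp f.appTop.hom
  let ρ : B₀ →+* Γ(X, ⊤) :=
    p.appTop.hom.comp (Scheme.ΓSpecIso (CommRingCat.of B₀)).inv.hom
  have hgρ : ∀ a, g (ρ a) = φ a := by
    intro a
    have h1 : p.appTop ≫ f.appTop = (Spec.map (CommRingCat.ofHom φ)).appTop := by
      rw [← Scheme.Hom.comp_appTop, hf]
    have h2 := Scheme.ΓSpecIso_naturality (CommRingCat.ofHom φ)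
    have h3 : (Scheme.ΓSpecIso (CommRingCat.of B₀)).inv ≫ p.appTop ≫ f.appTop ≫
        (Scheme.ΓSpecIso (CommRingCat.of B)).hom = CommRingCat.ofHom φ := by
      rw [reassoc_of% h1, h2, Iso.inv_hom_id_assoc]
    exact congr($(h3).hom a)
  let S : Set B := g '' (goodIdeal X : Set Γ(X, ⊤))
  have hmap : Ideal.map g (goodIdeal X) = ⊤ := by
    by_contra hne
    obtain ⟨m, hm, hle⟩ := Ideal.exists_le_maximal _ hne
    let y : Spec (CommRingCat.of B) := (⟨m, hm.isPrime⟩ : PrimeSpectrum B)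
    obtain ⟨r, hr, hxr⟩ := exists_mem_goodIdeal X (f.base y)
    have h1 : y ∈ f ⁻¹ᵁ X.basicOpen r := hxr
    rw [Scheme.preimage_basicOpen_top, basicOpen_eq_of_affine'] at h1
    exact h1 (hle (Ideal.mem_map_of_mem g hr))
  have hcl : ∀ z ∈ Ideal.map g (goodIdeal X), z ∈ closure S := by
    intro z hz
    refine Submodule.span_induction ?_ ?_ ?_ ?_ hz
    · rintro _ ⟨r, hr, rfl⟩; exact subset_closure ⟨r, hr, rfl⟩
    · exact subset_closure ⟨0, (goodIdeal X).zero_mem, map_zero g⟩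
    · intro x y _ _ hx hy
      refine map_mem_closure₂ continuous_add hx hy ?_
      rintro _ ⟨r, hr, rfl⟩ _ ⟨r', hr', rfl⟩
      exact ⟨r + r', (goodIdeal X).add_mem hr hr', map_add g r r'⟩
    · intro b x _ hx
      have hb : b ∈ closure (Set.range φ) := hφ b
      rw [smul_eq_mul]
      refine map_mem_closure₂ continuous_mul hb hx ?_
      rintro _ ⟨a, rfl⟩ _ ⟨r, hr, rfl⟩
      exact ⟨ρ a * r, (goodIdeal X).mul_mem_left _ hr, by rw [map_mul, hgρ]⟩
  have h1 : (1 : B) ∈ closure S := hcl 1 (by rw [hmap]; trivial)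
  obtain ⟨z, hzU, ⟨s, hs, rfl⟩⟩ := mem_closure_iff.mp h1 _ hB isUnit_one
  refine ⟨X.basicOpen s, isAffineOpen_of_mem_goodIdeal X s hs, ?_⟩
  have h2 : f ⁻¹ᵁ X.basicOpen s = ⊤ := by
    rw [Scheme.preimage_basicOpen_top]
    apply Scheme.basicOpen_of_isUnit
    have hu : IsUnit (g s) := hzU
    have h3 : f.appTop s = (Scheme.ΓSpecIso (CommRingCat.of B)).inv.hom (g s) := by
      show f.appTop s = (Scheme.ΓSpecIso (CommRingCat.of B)).inv.hom
        ((Scheme.ΓSpecIso (CommRingCat.of B)).hom.hom (f.appTop.hom s))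
      exact (Iso.hom_inv_id_apply (Scheme.ΓSpecIso (CommRingCat.of B)) _).symm
    rw [h3]
    exact hu.map _
  rintro _ ⟨y, rfl⟩
  have : y ∈ f ⁻¹ᵁ X.basicOpen s := by rw [h2]; trivial
  exact this

end Groth.Agent.Helper6.QAffPtLib
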